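import Mathlib
import Cfsg.Agent.Lib.Helper16.AP20
import Cfsg.Agent.Lib.Helper1.MEO.Asm
import Cfsg.Agent.S2261

set_option autoImplicit false

namespace Cfsg.Agent.Lib.Helper19.AMO

universe u

/-- the number of fixed points of a ring automorphism of `F`. -/
noncomputable def qf {F : Type u} [Field F] (τ : F ≃+* F) : ℕ := Nat.card {x : F // τ x = x}

theorem finite_ringAut (F : Type u) [Field F] [Finite F] : Finite (RingAut F) :=
  Finite.of_injective (fun e : RingAut F => (e : F → F)) DFunLike.coe_injective

theorem orderOf_ringAut_pos {F : Type u} [Field F] [Finite F] (τ : RingAut F) : 0 < orderOf τ := by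
  haveI := finite_ringAut F
  exact orderOf_pos τ

theorem two_le_qf {F : Type u} [Field F] [Finite F] (τ : F ≃+* F) : 2 ≤ qf τ := by
  unfold qf
  haveI : Finite {x : F // τ x = x} := Subtype.finite
  haveI : Nontrivial {x : F // τ x = x} :=
    ⟨⟨⟨0, map_zero τ⟩, ⟨1, map_one τ⟩, fun h => zero_ne_one (congrArg Subtype.val h)⟩⟩
  exact Finite.one_lt_card

end Cfsg.Agent.Lib.Helper19.AMO
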