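import Mathlib
import Cfsg.Agent.Lib.Helper19.AMO.Defs
import Cfsg.Agent.Lib.Helper19.AMOG3
import Cfsg.Agent.Lib.Helper19.AMOM1
import Cfsg.Agent.Lib.Helper19.AMOM3B
import Cfsg.Agent.Lib.Helper1.AMOG2
import Cfsg.Agent.Lib.Helper1.AMOM2O
import Cfsg.Agent.Lib.Helper1.AMOM3M
import Cfsg.Agent.Lib.Helper11.AMOM1
import Cfsg.Agent.Lib.Helper11.AMOTF
import Cfsg.Agent.Lib.Helper12.AMOSP42
import Cfsg.Agent.Lib.Helper12.AMOSP52
import Cfsg.Agent.Lib.Helper20.AMOG1
import Cfsg.Agent.Lib.Helper20.AMOHINV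
import Cfsg.Agent.Lib.Helper22.AMOSP3
import Cfsg.Agent.Lib.helper23.AMOA1
import Cfsg.Agent.Lib.helper23.AMOA1p
import Cfsg.Agent.Lib.helper23.AMOA2
import Cfsg.Agent.Lib.helper23.AMOA3
import Cfsg.Agent.Lib.helper6.AMOE2
import Cfsg.Agent.Lib.helper6.AMOH2
import Cfsg.Agent.Lib.helper6.AMOH3
import Cfsg.Agent.Lib.Helper29.AMOSP34

set_option autoImplicit false
set_option linter.unusedVariables false
set_option linter.unusedSectionVars false

namespace Cfsg.Agent.Lib.Helper19.AMO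

open Matrix Cfsg.Agent.Lib.Helper16.PG Cfsg.Agent.Lib.Helper16.AP Cfsg.Agent.Lib.Helper16.PU

universe u

section
variable {F : Type u} [Field F] [Fintype F] {d : ℕ}

/-- the field case: `(Φ(g) L(σ))^(|σ| k) = 1` with `k` bounded over the fixed field. -/
theorem field_case (hd : 1 ≤ d) (g : GL (Fin d) F) (σ : RingAut F) :
    ∃ k : ℕ, 0 < k ∧ (Phi d F g * fieldL d σ) ^ (orderOf σ * k) = 1 ∧
      (qf σ - 1) * k ≤ qf σ ^ d - 1 := by
  obtain ⟨y, hy1, hy2⟩ := pow_field g σ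
  have hcp : ((y : Matrix (Fin d) (Fin d) F).charpoly).map ((σ : F ≃+* F) : F →+* F) =
      (y : Matrix (Fin d) (Fin d) F).charpoly := by
    have h1 := congrArg (fun z : GL (Fin d) F => (z : Matrix (Fin d) (Fin d) F).charpoly) hy2
    simp only [Units.val_mul] at h1
    rw [Matrix.coe_units_inv, Matrix.charpoly_units_conj', mapGL_val] at h1
    exact ((Matrix.charpoly_map (y : Matrix (Fin d) (Fin d) F) ((σ : F ≃+* F) : F →+* F)).symm).trans h1
  obtain ⟨k, hk, ⟨c, hc⟩, hb⟩ := scalar_pow_bound d hd σ y hcp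
  refine ⟨k, hk, ?_, hb⟩
  rw [pow_mul, hy1, Phi_pow_eq_one y k c hc]

theorem scalar_of_matrix_pow (h : GL (Fin d) F) (j : ℕ) (c : F) (hc : c ≠ 0)
    (hA : (h : Matrix (Fin d) (Fin d) F) ^ j = c • (1 : Matrix (Fin d) (Fin d) F)) :
    ∃ c' : Fˣ, h ^ j = Matrix.GeneralLinearGroup.scalar (Fin d) c' := by
  refine ⟨Units.mk0 c hc, ?_⟩
  apply Units.ext
  rw [Units.val_pow_eq_pow_val, hA, Matrix.GeneralLinearGroup.coe_scalar]
  ext i j
  simp [Matrix.scalar_apply, Matrix.one_apply, Matrix.diagonal_apply]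

theorem scalar_of_pm_one (h : GL (Fin d) F) (j : ℕ)
    (hA : (h : Matrix (Fin d) (Fin d) F) ^ j = 1 ∨ (h : Matrix (Fin d) (Fin d) F) ^ j = -1) :
    ∃ c' : Fˣ, h ^ j = Matrix.GeneralLinearGroup.scalar (Fin d) c' := by
  rcases hA with hA | hA
  · exact scalar_of_matrix_pow h j 1 one_ne_zero (by rw [hA, one_smul])
  · exact scalar_of_matrix_pow h j (-1) (neg_ne_zero.mpr one_ne_zero) (by rw [hA, neg_smul, one_smul])

/-- from `β ^ 2 = Φ(h)` (times a trivial field part) and `h ^ j` scalar to the order bound. -/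
theorem bound_of_sq (β : MulAut (ProjectiveSpecialLinearGroup (Fin d) F)) (N B : ℕ) (hN : 0 < N)
    (hβ : β ^ N = 1) (hB : (Fintype.card F - 1) * N ≤ B) :
    (Fintype.card F - 1) * orderOf β ≤ B :=
  le_trans (Nat.mul_le_mul_left _ (Nat.le_of_dvd hN (orderOf_dvd_of_pow_eq_one hβ))) hB

theorem mapGL_one (g : GL (Fin d) F) : mapGL d (1 : RingAut F) g = g := by
  apply Units.ext
  rw [mapGL_val]
  ext i j
  rfl

theorem fieldL_one : fieldL d (1 : RingAut F) = 1 := fieldL_refl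

/-- the graph case `τ = 1`. -/
theorem graph_case (hd : 3 ≤ d) (h32 : ¬ (d = 3 ∧ Fintype.card F = 2)) (g : GL (Fin d) F) :
    (Fintype.card F - 1) * orderOf (Phi d F g * fieldL d (1 : RingAut F) * iota d F) ≤
      Fintype.card F ^ d - 1 := by
  have hq2 : 2 ≤ Fintype.card F := Fintype.one_lt_card
  set β := Phi d F g * fieldL d (1 : RingAut F) * iota d F with hβ
  have hsq : β ^ 2 = Phi d F (g * gTI d F g) := by
    rw [hβ, sq_graph, mapGL_one, mul_one, fieldL_one, mul_one]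
  obtain ⟨hdet, hcp⟩ := graph_elt_props g
  set h : GL (Fin d) F := g * gTI d F g with hh
  have hAB : (h : Matrix (Fin d) (Fin d) F) * ((h⁻¹ : GL (Fin d) F) : Matrix (Fin d) (Fin d) F) = 1 := by
    rw [← Units.val_mul, mul_inv_cancel, Units.val_one]
  -- common conclusion
  suffices hmain : ∃ j : ℕ, 0 < j ∧
      (∃ c' : Fˣ, h ^ j = Matrix.GeneralLinearGroup.scalar (Fin d) c') ∧
      (Fintype.card F - 1) * (2 * j) ≤ Fintype.card F ^ d - 1 by
    obtain ⟨j, hj, ⟨c', hc'⟩, hb⟩ := hmain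
    refine bound_of_sq β (2 * j) _ (by omega) ?_ hb
    rw [pow_mul, hsq, Phi_pow_eq_one h j c' hc']
  by_cases h3 : d = 3
  · subst h3
    have hq3 : 3 ≤ Fintype.card F := by
      rcases Nat.lt_or_ge (Fintype.card F) 3 with hlt | hge
      · exact absurd ⟨rfl, by omega⟩ h32
      · exact hge
    obtain ⟨j, hj, hA, hb⟩ := graph_special_three hq3
      (fun A B h1 h2 h3 => charpoly_reverse 3 A B h1 h2 h3) _ _ hdet hAB hcp
    exact ⟨j, hj, scalar_of_pm_one h j (Or.inl hA), hb⟩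
  by_cases h42 : d = 4 ∧ Fintype.card F = 2
  · obtain ⟨rfl, hq⟩ := h42
    obtain ⟨j, hj, hA, hb⟩ := graph_special_four_two hq
      (fun A B h1 h2 h3 => charpoly_reverse 4 A B h1 h2 h3) _ _ hdet hAB hcp
    refine ⟨j, hj, scalar_of_pm_one h j (Or.inl hA), ?_⟩
    rw [hq]
    omega
  by_cases h52 : d = 5 ∧ Fintype.card F = 2
  · obtain ⟨rfl, hq⟩ := h52
    obtain ⟨j, hj, hA, hb⟩ := graph_special_five_two hq
      (fun A B h1 h2 h3 => charpoly_reverse 5 A B h1 h2 h3) _ _ hdet hAB hcp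
    refine ⟨j, hj, scalar_of_pm_one h j (Or.inl hA), ?_⟩
    rw [hq]
    omega
  -- generic case
  rcases Nat.even_or_odd' d with ⟨m, hm | hm⟩
  · obtain ⟨j, hj, hA, hb⟩ := Cfsg.Agent.Lib.Helper1.MEO.matrix_bound m
      (by rw [Fintype.card_fin]; exact hm) (h : Matrix (Fin d) (Fin d) F) hdet
      (fun ν hν => hinv_of_charpoly_inv _ _ hAB hcp ν hν)
    exact ⟨j, hj, scalar_of_pm_one h j hA,
      arith_graph _ d m j hq2 hd (Or.inl hm) hb h3 h42 h52⟩
  · obtain ⟨j, hj, hA, hb⟩ := graph_bound_odd d (m + 1) (by omega)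
      (h : Matrix (Fin d) (Fin d) F) _ hdet hAB hcp
    exact ⟨j, hj, scalar_of_pm_one h j hA,
      arith_graph _ d (m + 1) j hq2 hd (Or.inr (by omega)) hb h3 h42 h52⟩

/-- the graph-field case, `τ` of order two. -/
theorem graph_field_case (hd : 3 ≤ d) (g : GL (Fin d) F) (τ : RingAut F) (h2 : τ * τ = 1)
    (hτ1 : τ ≠ 1) :
    (Fintype.card F - 1) * orderOf (Phi d F g * fieldL d τ * iota d F) ≤
      Fintype.card F ^ d - 1 := by
  set β := Phi d F g * fieldL d τ * iota d F with hβ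
  set h : GL (Fin d) F := g * mapGL d τ (gTI d F g) with hh
  have hsq : β ^ 2 = Phi d F h := by
    rw [hβ, sq_graph, h2, fieldL_one, mul_one]
  have hord : orderOf τ = 2 := orderOf_eq_prime (by rw [sq]; exact h2) hτ1
  have hq : Fintype.card F = qf τ ^ 2 := by
    have := qf_pow_orderOf τ
    rw [hord] at this
    exact this.symm
  have hq0 : 2 ≤ qf τ := two_le_qf τ
  obtain ⟨p, hpc⟩ := CharP.exists F
  have : CharP F p := hpc
  have : Fact p.Prime := ⟨CharP.char_is_prime F p⟩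
  obtain ⟨f0, hf0, hqf⟩ := qf_eq_prime_pow p (τ : F ≃+* F)
  have hcp := graph_field_elt_props g τ h2
  have hAB : (h : Matrix (Fin d) (Fin d) F) * ((h⁻¹ : GL (Fin d) F) : Matrix (Fin d) (Fin d) F) = 1 := by
    rw [← Units.val_mul, mul_inv_cancel, Units.val_one]
  have hmult := fun ν hν => mult_graph_field p f0 (qf τ) hqf (τ : F ≃+* F) (tau_eq_frob p f0 τ hqf h2)
    (h : Matrix (Fin d) (Fin d) F) _ hAB hcp ν hν
  suffices hmain : ∃ j : ℕ, 0 < j ∧
      (∃ c' : Fˣ, h ^ j = Matrix.GeneralLinearGroup.scalar (Fin d) c') ∧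
      (Fintype.card F - 1) * (2 * j) ≤ Fintype.card F ^ d - 1 by
    obtain ⟨j, hj, ⟨c', hc'⟩, hb⟩ := hmain
    refine bound_of_sq β (2 * j) _ (by omega) ?_ hb
    rw [pow_mul, hsq, Phi_pow_eq_one h j c' hc']
  by_cases hex : d = 3 ∧ qf τ = 2
  · obtain ⟨rfl, hq02⟩ := hex
    have hF4 : Fintype.card F = 4 := by rw [hq, hq02]; norm_num
    rw [hq02] at hmult
    obtain ⟨j, hj, ⟨c, hc0, hA⟩, hj10⟩ := graph_field_special hF4 (h : Matrix (Fin 3) (Fin 3) F) _ hAB hmult
    refine ⟨j, hj, scalar_of_matrix_pow h j c hc0 hA, ?_⟩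
    rw [hF4]
    omega
  · obtain ⟨j, hj, hA, hb⟩ := graph_field_bound p f0 (qf τ) hf0 hqf d
      (h : Matrix (Fin d) (Fin d) F) _ hAB hmult
    exact ⟨j, hj, scalar_of_pm_one h j hA, arith_graph_field (qf τ) d j _ hq0 hq hd hb hex⟩

/-- the graph-field case, `τ ^ 2 ≠ 1`. -/
theorem graph_field_big_case (hd : 3 ≤ d) (g : GL (Fin d) F) (τ : RingAut F) (h2 : τ * τ ≠ 1) :
    (Fintype.card F - 1) * orderOf (Phi d F g * fieldL d τ * iota d F) ≤
      Fintype.card F ^ d - 1 := by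
  set β := Phi d F g * fieldL d τ * iota d F with hβ
  have hsq := sq_graph g τ
  rw [← hβ] at hsq
  obtain ⟨k, hk, hpow, hb⟩ := field_case (by omega : 1 ≤ d) (g * mapGL d τ (gTI d F g)) (τ * τ)
  rw [← hsq, ← pow_mul] at hpow
  have he_pos : 0 < orderOf (τ * τ) := orderOf_ringAut_pos _
  have he2 : 2 ≤ orderOf (τ * τ) := by
    rcases Nat.lt_or_ge (orderOf (τ * τ)) 2 with hlt | hge
    · exact absurd (orderOf_eq_one_iff.mp (by omega)) h2
    · exact hge
  have he : 3 ≤ orderOf (τ * τ) ∨ (orderOf (τ * τ) = 2 ∧ 4 ≤ qf (τ * τ)) := by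
    rcases Nat.lt_or_ge (orderOf (τ * τ)) 3 with hlt | hge
    · right
      have : orderOf (τ * τ) = 2 := by omega
      exact ⟨this, four_le_qf_sq qf_pow_orderOf τ this⟩
    · left; exact hge
  refine bound_of_sq β (2 * (orderOf (τ * τ) * k)) _ (by positivity) hpow ?_
  exact arith_graph_field_big (qf (τ * τ)) (orderOf (τ * τ)) d k _ (two_le_qf _) hd
    (qf_pow_orderOf (τ * τ)).symm hb he

/-- the upper bound. -/
theorem upper (hd : 2 ≤ d) (h24 : ¬ (d = 2 ∧ Fintype.card F = 4))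
    (h32 : ¬ (d = 3 ∧ Fintype.card F = 2))
    (β : MulAut (ProjectiveSpecialLinearGroup (Fin d) F)) :
    (Fintype.card F - 1) * orderOf β ≤ Fintype.card F ^ d - 1 := by
  -- the field case, common to `d = 2` and `d ≥ 3`
  have hfield : ∀ (g : GL (Fin d) F) (τ : RingAut F),
      (Fintype.card F - 1) * orderOf (Phi d F g * fieldL d τ) ≤ Fintype.card F ^ d - 1 := by
    intro g τ
    obtain ⟨k, hk, hpow, hb⟩ := field_case (by omega : 1 ≤ d) g τ
    refine bound_of_sq _ (orderOf τ * k) _ (Nat.mul_pos (orderOf_ringAut_pos τ) hk) hpow ?_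
    refine arith_field (qf τ) (orderOf τ) d k _ (two_le_qf _) (orderOf_ringAut_pos τ) hd
      (qf_pow_orderOf τ).symm hb ?_
    rintro ⟨h1, h2, h3⟩
    apply h24
    refine ⟨h1, ?_⟩
    rw [← qf_pow_orderOf τ, h2, h3]; norm_num
  rcases Nat.lt_or_ge 2 d with h3 | h2
  · obtain ⟨g, τ, ε, hε, rfl⟩ := aut_PSL_struct hd β
    rcases hε with rfl | rfl
    · rw [mul_one]
      exact hfield g τ
    · by_cases h2 : (τ : RingAut F) * τ = 1
      · by_cases h1 : (τ : RingAut F) = 1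
        · have := graph_case h3 h32 g
          rw [h1]
          exact this
        · exact graph_field_case h3 g τ h2 h1
      · exact graph_field_big_case h3 g τ h2
  · obtain rfl : d = 2 := le_antisymm h2 hd
    obtain ⟨g, τ, rfl⟩ := aut_PSL_two β
    exact hfield g τ

/-- the lower bound: the image of a Singer cycle. -/
theorem lower (hd : 2 ≤ d) :
    ∃ φ : MulAut (ProjectiveSpecialLinearGroup (Fin d) F),
      (Fintype.card F - 1) * orderOf φ = Fintype.card F ^ d - 1 := by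
  obtain ⟨g, hg⟩ := Cfsg.Agent.S2261.lower (F := F) (d := d) (by omega)
  refine ⟨Phi d F g, ?_⟩
  rw [orderOf_Phi]
  exact le_antisymm (Cfsg.Agent.S2261.upper (by omega) g) hg

end

end Cfsg.Agent.Lib.Helper19.AMO
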